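import Groth.Agent.Lib.Flatness.Criterion
import Mathlib

/-!
# Quotients by one element over a square zero thickening by `p`
-/

set_option autoImplicit false
set_option linter.style.haveILetI false
universe u

open TensorProduct Function

noncomputable section

namespace GrothLib.NcdLift26

/-- In a module flat over `ℤ/p²`, what is killed by `p` is divisible by `p`. -/
theorem exists_eq_smul_of_smul_eq_zero {p : ℕ} [Fact p.Prime] {R₀ : Type u} [CommRing R₀]
    (e : R₀ ≃+* ZMod (p ^ 2)) {M : Type u} [AddCommGroup M] [Module R₀ M] [Module.Flat R₀ M] (m : M)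
    (h : (p : R₀) • m = 0) : ∃ m' : M, m = (p : R₀) • m' := by
  classical
  obtain ⟨κ, a, y, hy, ha⟩ := Module.Flat.isTrivialRelation_of_sum_smul_eq_zero
    (f := fun _ : Fin 1 => (p : R₀)) (x := fun _ : Fin 1 => m) (by simpa using h)
  have key : ∀ x : R₀, (p : R₀) * x = 0 → ∃ x' : R₀, x = (p : R₀) * x' := by
    intro x hx
    have hx' : (p : ZMod (p ^ 2)) * e x = 0 := by rw [← map_natCast e, ← map_mul, hx, map_zero]
    haveI : NeZero (p ^ 2) := ⟨pow_ne_zero 2 (Fact.out : p.Prime).ne_zero⟩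
    obtain ⟨n, hn⟩ : ∃ n : ℕ, e x = (n : ZMod (p ^ 2)) := ⟨(e x).val, (ZMod.natCast_zmod_val _).symm⟩
    rw [hn, ← Nat.cast_mul, ZMod.natCast_eq_zero_iff, pow_two] at hx'
    obtain ⟨c, hc⟩ := Nat.dvd_of_mul_dvd_mul_left (Fact.out : p.Prime).pos hx'
    exact ⟨(c : R₀), e.injective (by rw [hn, hc, map_mul, map_natCast, map_natCast, Nat.cast_mul])⟩
  choose a' ha' using fun j => key (a 0 j) (by simpa using ha j)
  refine ⟨∑ j, a' j • y j, ?_⟩
  rw [show m = ∑ j, a 0 j • y j from hy 0, Finset.smul_sum]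
  exact Finset.sum_congr rfl fun j _ => by rw [smul_smul, ← ha' j]

variable {A Ab : Type u} [CommRing A] [CommRing Ab] (π : A →+* Ab) (p : A)

/-- A lift of a regular generator is regular and generates. -/
theorem exists_generator (hπ : Surjective π) (hker : RingHom.ker π = Ideal.span {p}) (hp2 : p * p = 0)
    (hann : ∀ a : A, p * a = 0 → ∃ a', a = p * a') (J : Ideal A) (ub : Ab)
    (hub : ub ∈ nonZeroDivisors Ab) (hJ : J.map π = Ideal.span {ub})
    (hJann : ∀ a : A, p * a ∈ J → ∃ a', a - p * a' ∈ J) :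
    ∃ u : A, u ∈ nonZeroDivisors A ∧ J = Ideal.span {u} := by
  obtain ⟨u, huJ, rfl⟩ : ∃ u ∈ J, π u = ub :=
    (Ideal.mem_map_iff_of_surjective π hπ).1 (hJ ▸ Ideal.mem_span_singleton_self ub)
  have hmem : ∀ a : A, π a = 0 → ∃ c, a = p * c := fun a ha => by
    have : a ∈ Ideal.span {p} := hker ▸ RingHom.mem_ker.2 ha
    obtain ⟨c, hc⟩ := Ideal.mem_span_singleton'.1 this
    exact ⟨c, by rw [← hc, mul_comm]⟩
  have hstep : ∀ z ∈ J, ∃ c d, z = c * u + p * d := fun z hz => by
    obtain ⟨cb, hcb⟩ := Ideal.mem_span_singleton'.1 (hJ ▸ Ideal.mem_map_of_mem π hz)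
    obtain ⟨c, rfl⟩ := hπ cb
    obtain ⟨d, hd⟩ := hmem (z - c * u) (by rw [map_sub, map_mul, hcb, sub_self])
    exact ⟨c, d, by rw [← hd]; ring⟩
  refine ⟨u, mem_nonZeroDivisors_iff_right.2 fun a ha => ?_, le_antisymm (fun z hz => ?_)
    ((Ideal.span_singleton_le_iff_mem J).2 huJ)⟩
  · obtain ⟨c, rfl⟩ := hmem a (mem_nonZeroDivisors_iff_right.1 hub _ (by rw [← map_mul, ha, map_zero]))
    obtain ⟨e, he⟩ := hann (c * u) (by rw [← mul_assoc]; exact ha)
    obtain ⟨c', rfl⟩ := hmem c (mem_nonZeroDivisors_iff_right.1 hub _ (by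
      rw [← map_mul, he, map_mul, RingHom.mem_ker.1 (hker.symm ▸ Ideal.mem_span_singleton_self p), zero_mul]))
    rw [← mul_assoc, hp2, zero_mul]
  · obtain ⟨c, d, rfl⟩ := hstep z hz
    obtain ⟨d', hd'⟩ := hJann d (by
      have := J.sub_mem hz (J.mul_mem_left c huJ)
      rwa [add_sub_cancel_left] at this)
    obtain ⟨c', d'', hd''⟩ := hstep _ hd'
    refine Ideal.mem_span_singleton'.2 ⟨c + p * c', ?_⟩
    have hd2 : d = c' * u + p * (d' + d'') := by linear_combination hd''
    rw [hd2]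
    linear_combination (-(d' + d'')) * hp2

/-- A lift of a regular element with flat quotient has flat quotient. -/
theorem flat_quotient {R Rb : Type u} [CommRing R] [CommRing Rb] [Algebra R A]
    (ρ : R →+* Rb) (p₀ : R) (hp₀ : algebraMap R A p₀ = p) (hρ : Surjective ρ)
    (hρker : RingHom.ker ρ = Ideal.span {p₀}) (hp2 : p₀ * p₀ = 0)
    (hπ : Surjective π) (hker : RingHom.ker π = Ideal.span {p})
    (hann : ∀ a : A, p * a = 0 → ∃ a', a = p * a')
    (φb : Rb →+* Ab) (hcomm : φb.comp ρ = π.comp (algebraMap R A))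
    (u : A) (hub : π u ∈ nonZeroDivisors Ab)
    (hflat : ((Ideal.Quotient.mk (Ideal.span {π u})).comp φb).Flat) :
    Module.Flat R (A ⧸ Ideal.span {u}) := by
  let M := A ⧸ Ideal.span {u}
  let I : Ideal R := Ideal.span {p₀}
  have hmulp : ∀ a : A, p₀ • (Ideal.Quotient.mk (Ideal.span {u}) a : M) = Ideal.Quotient.mk _ (p * a) := fun a => by
    rw [← hp₀, ← Algebra.smul_def]
    rfl
  have hp2A : p * p = 0 := by rw [← hp₀, ← map_mul, hp2, map_zero]
  have hMann : ∀ m : M, p₀ • m = 0 → ∃ m', m = p₀ • m' := by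
    intro m hm
    obtain ⟨a, rfl⟩ := Ideal.Quotient.mk_surjective m
    rw [hmulp, Ideal.Quotient.eq_zero_iff_mem] at hm
    obtain ⟨c, hc⟩ := Ideal.mem_span_singleton'.1 hm
    have hcK : π c = 0 := mem_nonZeroDivisors_iff_right.1 hub _ (by
      rw [← map_mul, hc, map_mul, RingHom.mem_ker.1 (hker.symm ▸ Ideal.mem_span_singleton_self p), zero_mul])
    obtain ⟨c', hc'⟩ := Ideal.mem_span_singleton'.1 (show c ∈ Ideal.span {p} from hker ▸ RingHom.mem_ker.2 hcK)
    obtain ⟨d, hd⟩ := hann (a - c' * u) (by linear_combination hc.symm.trans (by rw [← hc']) )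
    refine ⟨Ideal.Quotient.mk _ d, ?_⟩
    rw [hmulp, Ideal.Quotient.eq]
    exact Ideal.mem_span_singleton'.2 ⟨c', by rw [← hd]; ring⟩
  refine GrothLib.Flatness.flat_of_isNilpotent I ⟨2, ?_⟩ ?_ ?_
  · rw [Ideal.span_singleton_pow, pow_two, hp2]
    simp
  · let x₀ : I := ⟨p₀, Ideal.mem_span_singleton_self p₀⟩
    have hall : ∀ t : M ⊗[R] I, ∃ m : M, t = m ⊗ₜ x₀ := by
      intro t
      induction t using TensorProduct.induction_on with
      | zero => exact ⟨0, (zero_tmul _ _).symm⟩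
      | add a b ha hb =>
        obtain ⟨m, rfl⟩ := ha
        obtain ⟨m', rfl⟩ := hb
        exact ⟨m + m', (add_tmul _ _ _).symm⟩
      | tmul m i =>
        obtain ⟨c, hc⟩ := Ideal.mem_span_singleton'.1 i.2
        refine ⟨c • m, ?_⟩
        rw [smul_tmul]
        congr 1
        exact Subtype.ext hc.symm
    rw [injective_iff_map_eq_zero]
    intro t ht
    obtain ⟨m, rfl⟩ := hall t
    have : p₀ • m = 0 := by
      have h := congrArg (TensorProduct.rid R M) ht
      simpa [x₀] using h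
    obtain ⟨m', rfl⟩ := hMann m this
    rw [smul_tmul, show p₀ • x₀ = 0 from Subtype.ext hp2, tmul_zero]
  · let τ : A →+* Ab ⧸ Ideal.span {π u} := (Ideal.Quotient.mk _).comp π
    have hτker : ∀ a : A, τ a = 0 ↔ a ∈ Ideal.span {u} ⊔ I.map (algebraMap R A) := by
      intro a
      rw [Ideal.map_span, Set.image_singleton, hp₀, ← hker, ← RingHom.mem_ker]
      have : RingHom.ker τ = (Ideal.span {π u}).comap π := by
        rw [← RingHom.comap_ker, Ideal.mk_ker]
      rw [this, ← Set.image_singleton, ← Ideal.map_span, Ideal.comap_map_of_surjective π hπ, RingHom.ker_eq_comap_bot]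
    let σ : R ⧸ I →+* Rb := Ideal.Quotient.lift I ρ (fun a ha => RingHom.mem_ker.1 (hρker.symm ▸ ha))
    have hσ : Bijective σ := by
      refine ⟨(injective_iff_map_eq_zero σ).2 fun a ha => ?_, Ideal.Quotient.lift_surjective_of_surjective _ _ hρ⟩
      obtain ⟨a, rfl⟩ := Ideal.Quotient.mk_surjective a
      rw [Ideal.Quotient.eq_zero_iff_mem, show I = RingHom.ker ρ from hρker.symm]
      exact RingHom.mem_ker.2 ha
    let χ : R ⧸ I →+* Ab ⧸ Ideal.span {π u} := ((Ideal.Quotient.mk _).comp φb).comp σ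
    have hχ : χ.Flat := RingHom.Flat.comp (RingHom.Flat.of_bijective hσ) hflat
    letI : Algebra (R ⧸ I) (Ab ⧸ Ideal.span {π u}) := χ.toAlgebra
    haveI : Module.Flat (R ⧸ I) (Ab ⧸ Ideal.span {π u}) := hχ
    letI : Algebra R (Ab ⧸ Ideal.span {π u}) := (χ.comp (Ideal.Quotient.mk I)).toAlgebra
    haveI : IsScalarTower R (R ⧸ I) (Ab ⧸ Ideal.span {π u}) := IsScalarTower.of_algebraMap_eq fun _ => rfl
    have hτR : ∀ r : R, τ (algebraMap R A r) = algebraMap R (Ab ⧸ Ideal.span {π u}) r := fun r => by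
      show Ideal.Quotient.mk _ ((π.comp (algebraMap R A)) r) = _
      rw [← hcomm]
      rfl
    let T : M →+* Ab ⧸ Ideal.span {π u} := Ideal.Quotient.lift _ τ (fun a ha => (hτker a).2 (Ideal.mem_sup_left ha))
    let Tl : M →ₗ[R] Ab ⧸ Ideal.span {π u} :=
      { toFun := T
        map_add' := map_add T
        map_smul' := fun r m => by
          obtain ⟨a, rfl⟩ := Ideal.Quotient.mk_surjective m
          show τ (r • a) = r • τ a
          rw [Algebra.smul_def, Algebra.smul_def, map_mul, hτR] }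
    have hTs : Surjective Tl := fun z => by
      obtain ⟨z, rfl⟩ := Ideal.Quotient.mk_surjective z
      obtain ⟨a, rfl⟩ := hπ z
      exact ⟨Ideal.Quotient.mk _ a, rfl⟩
    have hTk : LinearMap.ker Tl = I • (⊤ : Submodule R M) := by
      ext m
      obtain ⟨a, rfl⟩ := Ideal.Quotient.mk_surjective m
      rw [LinearMap.mem_ker, Ideal.smul_top_eq_map, Submodule.restrictScalars_mem]
      show τ a = 0 ↔ Ideal.Quotient.mk _ a ∈ I.map (algebraMap R M)
      rw [hτker, show algebraMap R M = (Ideal.Quotient.mk (Ideal.span {u})).comp (algebraMap R A) from rfl,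
        ← Ideal.map_map, Ideal.mem_quotient_iff_mem_sup, sup_comm]
    let e₁ : (R ⧸ I) ⊗[R] M ≃ₗ[R] Ab ⧸ Ideal.span {π u} :=
      (TensorProduct.quotTensorEquivQuotSMul M I).trans
        ((Submodule.quotEquivOfEq _ _ hTk.symm).trans (Tl.quotKerEquivOfSurjective hTs))
    exact Module.Flat.of_linearEquiv (e₁.extendScalarsOfSurjective Ideal.Quotient.mk_surjective)

end GrothLib.NcdLift26
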