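import Groth.Prelude.Def_LogNCD
import Groth.Agent.Lib.NcdLift26.Algebra
import Groth.Agent.Lib.BlowUp.EffCartier
import Mathlib

/-!
# The coordinates of a relative normal crossing divisor on affine opens
-/

set_option autoImplicit false
set_option backward.isDefEq.respectTransparency false
set_option linter.style.haveILetI false
universe u

open CategoryTheory CategoryTheory.Limits AlgebraicGeometry Opposite
open scoped TensorProduct

noncomputable section

namespace GrothLib.NcdLift26

/-- A coordinate function of an étale chart is regular with flat zero locus over the base ring. -/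
theorem regular_flat_of_etale {R B : Type u} [CommRing R] [CommRing B] [Algebra R B] {σ : Type u}
    (x : σ → B) (hx : (MvPolynomial.aeval x : MvPolynomial σ R →ₐ[R] B).toRingHom.Etale) (e : σ) :
    x e ∈ nonZeroDivisors B ∧
      ((Ideal.Quotient.mk (Ideal.span {x e})).comp (algebraMap R B)).Flat := by
  classical
  let φ := (MvPolynomial.aeval x : MvPolynomial σ R →ₐ[R] B)
  letI : Algebra (MvPolynomial σ R) B := φ.toRingHom.toAlgebra
  haveI : IsScalarTower R (MvPolynomial σ R) B := IsScalarTower.of_algebraMap_eq fun r => (φ.commutes r).symm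
  haveI : Algebra.Etale (MvPolynomial σ R) B := hx
  haveI : Module.Flat (MvPolynomial σ R) B := inferInstance
  have hreg : (MvPolynomial.X e : MvPolynomial σ R) ∈ nonZeroDivisors (MvPolynomial σ R) := by
    refine mem_nonZeroDivisors_iff_right.2 fun q hq => ?_
    exact MvPolynomial.ext _ _ fun d => by
      have := congrArg (fun t => MvPolynomial.coeff (d + Finsupp.single e 1) t) hq
      simpa [MvPolynomial.coeff_mul_X] using this
  have he : algebraMap (MvPolynomial σ R) B (MvPolynomial.X e) = x e := MvPolynomial.aeval_X _ _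
  refine ⟨he ▸ GrothLib.BlowUp.mem_nonZeroDivisors_of_flat _ (RingHom.flat_algebraMap_iff.2 inferInstance) hreg, ?_⟩
  let P := MvPolynomial σ R
  let J : Ideal P := Ideal.span {MvPolynomial.X e}
  let S' := {i : σ // i ≠ e}
  let κ : P →ₐ[R] MvPolynomial S' R := MvPolynomial.aeval fun i =>
    if h : i = e then 0 else MvPolynomial.X ⟨i, h⟩
  have hκ : RingHom.ker κ.toRingHom = J := by
    refine le_antisymm (fun q hq => ?_) ?_
    · let ν : MvPolynomial S' R →ₐ[R] P ⧸ J := MvPolynomial.aeval fun i => Ideal.Quotient.mk J (MvPolynomial.X i.1)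
      have hν : ν.comp κ = Ideal.Quotient.mkₐ R J := by
        refine MvPolynomial.algHom_ext fun i => ?_
        by_cases h : i = e
        · subst h
          have hz : Ideal.Quotient.mkₐ R J (MvPolynomial.X i) = 0 :=
            Ideal.Quotient.eq_zero_iff_mem.2 (Ideal.mem_span_singleton_self (MvPolynomial.X i : P))
          rw [AlgHom.comp_apply, hz, MvPolynomial.aeval_X, dif_pos rfl, map_zero]
        · rw [AlgHom.comp_apply, MvPolynomial.aeval_X, dif_neg h, MvPolynomial.aeval_X]
          rfl
      rw [← Ideal.Quotient.eq_zero_iff_mem]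
      have := congrArg ν (RingHom.mem_ker.1 hq : κ q = 0)
      rw [map_zero] at this
      exact (AlgHom.congr_fun hν q).symm.trans this
    · rw [Ideal.span_le, Set.singleton_subset_iff]
      show κ (MvPolynomial.X e) = 0
      rw [MvPolynomial.aeval_X, dif_pos rfl]
  have hκs : Function.Surjective κ := fun q => by
    refine ⟨MvPolynomial.rename Subtype.val q, ?_⟩
    rw [MvPolynomial.aeval_rename]
    convert MvPolynomial.aeval_X_left_apply q using 3
    funext i
    simp [i.2]
  haveI : Module.Flat R (P ⧸ J) :=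
    Module.Flat.of_linearEquiv ((Ideal.quotientEquivAlgOfEq R hκ.symm).trans
      (Ideal.quotientKerAlgEquivOfSurjective hκs)).toLinearEquiv
  haveI : Module.Flat (P ⧸ J) ((P ⧸ J) ⊗[P] B) := inferInstance
  haveI : Module.Flat R ((P ⧸ J) ⊗[P] B) := Module.Flat.trans R (P ⧸ J) _
  have hmap : J.map (algebraMap P B) = Ideal.span {x e} := by
    rw [Ideal.map_span, Set.image_singleton, he]
  let e₁ : (P ⧸ J) ⊗[P] B ≃ₗ[P] B ⧸ (J.map (algebraMap P B)) :=
    (TensorProduct.quotTensorEquivQuotSMul B J).trans
      ((Submodule.quotEquivOfEq _ _ (Ideal.smul_top_eq_map J)).trans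
        (Submodule.Quotient.restrictScalarsEquiv P (J.map (algebraMap P B))))
  haveI : Module.Flat R (B ⧸ J.map (algebraMap P B)) := Module.Flat.of_linearEquiv (e₁.restrictScalars R).symm
  rw [← hmap]
  exact RingHom.flat_algebraMap_iff.2 (inferInstance : Module.Flat R (B ⧸ J.map (algebraMap P B)))

variable {S X : Scheme.{u}}

/-- The étale chart of a relative normal crossing divisor on affine opens. -/
theorem etale_aeval (f : X ⟶ S) (W : X.Opens) {σ : Type u} (v : σ → Γ(W, ⊤))
    [Etale (AffineSpace.homOfVector (W.ι ≫ f) v)] {V : S.Opens} (hV : IsAffineOpen V) {U : X.Opens}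
    (hU : IsAffineOpen U) (hUW : U ≤ W) (hUV : U ≤ f ⁻¹ᵁ V) :
    letI := (f.appLE V U hUV).hom.toAlgebra
    (MvPolynomial.aeval (fun i => LogNCD.sectOn W hUW (v i)) :
      MvPolynomial σ Γ(S, V) →ₐ[Γ(S, V)] Γ(X, U)).toRingHom.Etale := by
  let ρ := f.appLE V U hUV
  letI := ρ.hom.toAlgebra
  let η : Spec Γ(X, U) ⟶ W := IsOpenImmersion.lift W.ι hU.fromSpec (by
    rw [hU.range_fromSpec, Scheme.Opens.range_ι]; exact hUW)
  have hη : η ≫ W.ι = hU.fromSpec := IsOpenImmersion.lift_fac _ _ _
  haveI : IsOpenImmersion η := by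
    haveI : IsOpenImmersion (η ≫ W.ι) := hη ▸ inferInstance
    exact IsOpenImmersion.of_comp η W.ι
  let w : σ → Γ(Spec Γ(X, U), ⊤) := fun i => (Scheme.ΓSpecIso Γ(X, U)).inv (LogNCD.sectOn W hUW (v i))
  have hw : η.appTop ∘ v = w := by
    funext i
    have h1 : W.topIso.inv ≫ η.appTop = hU.fromSpec.appLE W ⊤ (by
        rw [← hη, Scheme.Hom.comp_preimage, Scheme.Opens.ι_preimage_self]; exact le_top) := by
      have hc := Scheme.Hom.appLE_comp_appLE η W.ι W ⊤ ⊤ (by rw [W.ι_preimage_self]) le_top
      simp only [hη] at hc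
      rw [← hc]
      simp [Scheme.Hom.appLE, Scheme.Opens.topIso_inv]
      rw [← Functor.map_comp_assoc]
      rfl
    have h2 : hU.fromSpec.appLE W ⊤ (by
        rw [← hη, Scheme.Hom.comp_preimage, Scheme.Opens.ι_preimage_self]; exact le_top) =
        X.presheaf.map (homOfLE hUW).op ≫ (Scheme.ΓSpecIso Γ(X, U)).inv := by
      have h3 : hU.fromSpec.appLE U ⊤ (by rw [hU.fromSpec_preimage_self]) = (Scheme.ΓSpecIso Γ(X, U)).inv := by
        simp [Scheme.Hom.appLE, IsAffineOpen.fromSpec_app_self, ← Functor.map_comp, Subsingleton.elim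
          ((eqToHom (congrArg op hU.fromSpec_preimage_self.symm) : op ⊤ ⟶ _) ≫ _) (𝟙 (op (⊤ : (Spec Γ(X, U)).Opens)))]
      rw [← h3, Scheme.Hom.map_appLE]
    have := congr($(h1.trans h2) (W.topIso.hom (v i)))
    rw [CommRingCat.comp_apply, CommRingCat.comp_apply, ← CommRingCat.comp_apply W.topIso.hom, Iso.hom_inv_id] at this
    exact this
  let ψ := AffineSpace.homOfVector (Spec.map ρ) w
  have key : η ≫ AffineSpace.homOfVector (W.ι ≫ f) v = ψ ≫ AffineSpace.map σ hV.fromSpec := by
    rw [AffineSpace.comp_homOfVector, hw]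
    refine AffineSpace.hom_ext ?_ fun i => ?_
    · rw [AffineSpace.homOfVector_over, ← Category.assoc, hη, Category.assoc, AffineSpace.map_over,
        AffineSpace.homOfVector_over_assoc, IsAffineOpen.SpecMap_appLE_fromSpec f hV hU hUV]
    · rw [AffineSpace.homOfVector_appTop_coord, Scheme.Hom.comp_appTop, CommRingCat.comp_apply,
        AffineSpace.map_appTop_coord, AffineSpace.homOfVector_appTop_coord]
  haveI : IsOpenImmersion (AffineSpace.map σ hV.fromSpec) :=
    MorphismProperty.of_isPullback (AffineSpace.isPullback_map hV.fromSpec).flip inferInstance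
  haveI : Etale (ψ ≫ AffineSpace.map σ hV.fromSpec) := key ▸ inferInstance
  haveI : Etale ψ := Etale.of_comp ψ (AffineSpace.map σ hV.fromSpec)
  let a := (MvPolynomial.aeval (fun i => LogNCD.sectOn W hUW (v i)) :
      MvPolynomial σ Γ(S, V) →ₐ[Γ(S, V)] Γ(X, U))
  have he : ψ = Spec.map (CommRingCat.ofHom a.toRingHom) ≫ (AffineSpace.SpecIso σ Γ(S, V)).inv := by
    refine AffineSpace.hom_ext ?_ fun i => ?_
    · rw [AffineSpace.homOfVector_over, Category.assoc, AffineSpace.SpecIso_inv_over, ← Spec.map_comp]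
      congr 1
      ext r
      exact (a.commutes r).symm
    · rw [AffineSpace.homOfVector_appTop_coord, Scheme.Hom.comp_appTop, CommRingCat.comp_apply,
        AffineSpace.SpecIso_inv_appTop_coord, ← CommRingCat.comp_apply (Scheme.ΓSpecIso _).inv,
        ← Scheme.ΓSpecIso_inv_naturality, CommRingCat.comp_apply]
      simp [w, a]
      rfl
  haveI : Etale (Spec.map (CommRingCat.ofHom a.toRingHom) ≫ (AffineSpace.SpecIso σ Γ(S, V)).inv) := he ▸ inferInstance
  exact (HasRingHomProperty.Spec_iff (P := @Etale) (φ := CommRingCat.ofHom a.toRingHom)).1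
    ((MorphismProperty.cancel_right_of_respectsIso @Etale _ (AffineSpace.SpecIso σ Γ(S, V)).inv).1 inferInstance)

/-- A base change of a quotient map has the expected kernel. -/
theorem ker_le_of_isPushout {A B C D : CommRingCat.{u}} {a : A ⟶ B} {b : A ⟶ C} {c : B ⟶ D} {d : C ⟶ D}
    (h : IsPushout a b c d) (hb : Function.Surjective b.hom) :
    RingHom.ker c.hom ≤ (RingHom.ker b.hom).map a.hom := by
  let K := (RingHom.ker b.hom).map a.hom
  let m : A →+* B ⧸ K := (Ideal.Quotient.mk K).comp a.hom
  have hm : RingHom.ker b.hom ≤ RingHom.ker m := fun x hx => by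
    rw [RingHom.mem_ker, RingHom.comp_apply, Ideal.Quotient.eq_zero_iff_mem]
    exact Ideal.mem_map_of_mem _ hx
  let l : C ⟶ CommRingCat.of (B ⧸ K) :=
    CommRingCat.ofHom (RingHom.liftOfSurjective b.hom hb ⟨m, hm⟩)
  have hl : a ≫ CommRingCat.ofHom (Ideal.Quotient.mk K) = b ≫ l := by
    ext x
    exact (RingHom.liftOfRightInverse_comp_apply b.hom _ (Function.rightInverse_surjInv hb) ⟨m, hm⟩ x).symm
  intro z hz
  rw [← Ideal.Quotient.eq_zero_iff_mem]
  have h2 := congr($(h.inl_desc (CommRingCat.ofHom (Ideal.Quotient.mk K)) l hl) z)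
  rw [CommRingCat.comp_apply, show c z = 0 from hz, map_zero] at h2
  exact h2.symm

end GrothLib.NcdLift26
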