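import Groth.Agent.Lib.NcdLift26.Geom
import Groth.Agent.Lib.CycNorm12.Local
import Mathlib

/-!
# Thickenings by `p` over `ℤ/p²` and coordinates of normal crossing divisors
-/

set_option autoImplicit false
set_option backward.isDefEq.respectTransparency false
set_option linter.style.haveILetI false
universe u

open CategoryTheory CategoryTheory.Limits AlgebraicGeometry Opposite

noncomputable section

namespace GrothLib.NcdLift26

variable (p : ℕ) [Fact p.Prime]

/-- The reduction morphism of the two bases. -/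
abbrev red : Spec (CommRingCat.of (ULift.{u} (ZMod p))) ⟶ Spec (CommRingCat.of (ULift.{u} (ZMod (p ^ 2)))) :=
  Spec.map (CommRingCat.ofHom
      ((ZMod.castHom (dvd_pow_self p two_ne_zero) (ULift.{u} (ZMod p))).comp
        (ULift.ringEquiv : ULift.{u} (ZMod (p ^ 2)) ≃+* ZMod (p ^ 2)).toRingHom))

theorem surjective_red : Surjective (red.{u} p) ∧ IsClosedImmersion (red.{u} p) := by
  let eR : ULift.{u} (ZMod (p ^ 2)) ≃+* ZMod (p ^ 2) := ULift.ringEquiv
  let r₀ : ULift.{u} (ZMod (p ^ 2)) →+* ULift.{u} (ZMod p) :=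
    (ZMod.castHom (dvd_pow_self p two_ne_zero) (ULift.{u} (ZMod p))).comp eR.toRingHom
  have hr₀ : Function.Surjective r₀ := by
    haveI : NeZero p := ⟨(Fact.out : p.Prime).ne_zero⟩
    intro z
    refine ⟨eR.symm (z.down.val : ZMod (p ^ 2)), ?_⟩
    show ZMod.castHom (dvd_pow_self p two_ne_zero) (ULift.{u} (ZMod p)) (eR (eR.symm _)) = z
    rw [RingEquiv.apply_symm_apply, map_natCast]
    exact ULift.ext _ _ (ZMod.natCast_zmod_val z.down)
  have hr₀k : RingHom.ker r₀ ≤ Ideal.span {(p : ULift.{u} (ZMod (p ^ 2)))} := by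
    haveI : NeZero (p ^ 2) := ⟨pow_ne_zero 2 (Fact.out : p.Prime).ne_zero⟩
    intro z hz
    obtain ⟨n, hn⟩ : ∃ n : ℕ, eR z = (n : ZMod (p ^ 2)) := ⟨(eR z).val, (ZMod.natCast_zmod_val _).symm⟩
    have h0 : ((n : ℕ) : ULift.{u} (ZMod p)) = 0 := by
      have := RingHom.mem_ker.1 hz
      show _ = _
      rw [← this]
      show _ = ZMod.castHom (dvd_pow_self p two_ne_zero) (ULift.{u} (ZMod p)) (eR z)
      rw [hn, map_natCast]
    obtain ⟨c, rfl⟩ : p ∣ n := (ZMod.natCast_eq_zero_iff n p).1 (congrArg ULift.down h0)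
    exact Ideal.mem_span_singleton'.2 ⟨(c : ℕ), eR.injective (by
      rw [hn, map_mul, map_natCast, map_natCast, Nat.cast_mul, mul_comm])⟩
  haveI : Surjective (red.{u} p) := by
    refine ⟨fun z => ?_⟩
    haveI hl : (RingHom.ker r₀) ≤ nilradical _ := hr₀k.trans ((Ideal.span_singleton_le_iff_mem _).2
      ⟨2, eR.injective (by rw [map_pow, map_natCast, map_zero, ← Nat.cast_pow, ZMod.natCast_self])⟩)
    obtain ⟨w, hw⟩ : (show PrimeSpectrum (ULift.{u} (ZMod (p ^ 2))) from z) ∈ Set.range (PrimeSpectrum.comap r₀) := by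
      rw [range_comap_of_surjective _ _ hr₀]
      exact hl.trans (nilradical_le_prime _)
    exact ⟨w, hw⟩
  exact ⟨‹_›, IsClosedImmersion.spec_of_surjective _ hr₀⟩

variable {p}

/-- The ideal of the reduction on affine opens. -/
theorem ker_app_of_isPullback {Y Y' : Scheme.{u}} (i : Y' ⟶ Y) (a : Y ⟶ Spec (CommRingCat.of (ULift.{u} (ZMod (p ^ 2)))))
    (b : Y' ⟶ Spec (CommRingCat.of (ULift.{u} (ZMod p)))) (h : IsPullback i b a (red p)) [IsClosedImmersion i]
    {U : Y.Opens} (hU : IsAffineOpen U) : RingHom.ker (i.app U).hom = Ideal.span {(p : Γ(Y, U))} := by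
  let eR : ULift.{u} (ZMod (p ^ 2)) ≃+* ZMod (p ^ 2) := ULift.ringEquiv
  let r₀ : ULift.{u} (ZMod (p ^ 2)) →+* ULift.{u} (ZMod p) :=
    (ZMod.castHom (dvd_pow_self p two_ne_zero) (ULift.{u} (ZMod p))).comp eR.toRingHom
  have hr₀ : Function.Surjective r₀ := by
    haveI : NeZero p := ⟨(Fact.out : p.Prime).ne_zero⟩
    intro z
    refine ⟨eR.symm (z.down.val : ZMod (p ^ 2)), ?_⟩
    show ZMod.castHom (dvd_pow_self p two_ne_zero) (ULift.{u} (ZMod p)) (eR (eR.symm _)) = z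
    rw [RingEquiv.apply_symm_apply, map_natCast]
    exact ULift.ext _ _ (ZMod.natCast_zmod_val z.down)
  have hr₀k : RingHom.ker r₀ ≤ Ideal.span {(p : ULift.{u} (ZMod (p ^ 2)))} := by
    haveI : NeZero (p ^ 2) := ⟨pow_ne_zero 2 (Fact.out : p.Prime).ne_zero⟩
    intro z hz
    obtain ⟨n, hn⟩ : ∃ n : ℕ, eR z = (n : ZMod (p ^ 2)) := ⟨(eR z).val, (ZMod.natCast_zmod_val _).symm⟩
    have h0 : ((n : ℕ) : ULift.{u} (ZMod p)) = 0 := by
      have := RingHom.mem_ker.1 hz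
      show _ = _
      rw [← this]
      show _ = ZMod.castHom (dvd_pow_self p two_ne_zero) (ULift.{u} (ZMod p)) (eR z)
      rw [hn, map_natCast]
    obtain ⟨c, rfl⟩ : p ∣ n := (ZMod.natCast_eq_zero_iff n p).1 (congrArg ULift.down h0)
    exact Ideal.mem_span_singleton'.2 ⟨(c : ℕ), eR.injective (by
      rw [hn, map_mul, map_natCast, map_natCast, Nat.cast_mul, mul_comm])⟩
  let red := red.{u} p
  have h' : IsPullback (i ∣_ U) ((i ⁻¹ᵁ U).ι ≫ b) (U.ι ≫ a) red :=
    (isPullback_morphismRestrict i U).paste_vert h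
  haveI : IsAffine U.toScheme := hU
  have hpo := isPushout_appTop_of_isPullback h'
  have hredC : Function.Surjective red.appTop.hom := by
    have e : (Scheme.ΓSpecIso _).inv ≫ red.appTop = CommRingCat.ofHom r₀ ≫ (Scheme.ΓSpecIso _).inv :=
      (Scheme.ΓSpecIso_inv_naturality (CommRingCat.ofHom r₀)).symm
    intro z
    obtain ⟨w, hw⟩ := hr₀ ((Scheme.ΓSpecIso _).hom z)
    refine ⟨(Scheme.ΓSpecIso _).inv w, ?_⟩
    refine (congr($e w)).trans ?_
    rw [CommRingCat.comp_apply]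
    show (Scheme.ΓSpecIso _).inv (r₀ w) = z
    rw [hw, ← CommRingCat.comp_apply, Iso.hom_inv_id]
    rfl
  have hk := ker_le_of_isPushout hpo hredC
  have hred : RingHom.ker red.appTop.hom ≤ Ideal.span {((p : ℕ) : Γ(Spec (CommRingCat.of (ULift.{u} (ZMod (p ^ 2)))), ⊤))} := by
    intro z hz
    have e : red.appTop ≫ (Scheme.ΓSpecIso _).hom = (Scheme.ΓSpecIso _).hom ≫ CommRingCat.ofHom r₀ :=
      Scheme.ΓSpecIso_naturality (CommRingCat.ofHom r₀)
    have : (Scheme.ΓSpecIso _).hom z ∈ RingHom.ker r₀ := by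
      rw [RingHom.mem_ker]
      have := congr($e z)
      rw [CommRingCat.comp_apply, CommRingCat.comp_apply, show red.appTop z = 0 from hz, map_zero] at this
      exact this.symm
    obtain ⟨c, hc⟩ := Ideal.mem_span_singleton'.1 (hr₀k this)
    refine Ideal.mem_span_singleton'.2 ⟨(Scheme.ΓSpecIso _).inv c, ?_⟩
    have := congrArg (Scheme.ΓSpecIso (CommRingCat.of (ULift.{u} (ZMod (p ^ 2))))).inv hc
    rw [map_mul, map_natCast, ← CommRingCat.comp_apply, Iso.hom_inv_id] at this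
    exact this
  have hk2 : RingHom.ker (i ∣_ U).appTop.hom ≤ Ideal.span {((p : ℕ) : Γ(U.toScheme, ⊤))} :=
    hk.trans ((Ideal.map_mono hred).trans (by rw [Ideal.map_span, Set.image_singleton, map_natCast]))
  refine le_antisymm (fun z hz => ?_) ((Ideal.span_singleton_le_iff_mem _).2 ?_)
  · have he : (i ∣_ U).appTop = U.topIso.hom ≫ i.app U ≫ (i ⁻¹ᵁ U).topIso.inv := by
      simp [Scheme.Opens.topIso_hom, Scheme.Opens.topIso_inv, Scheme.Hom.appTop, Scheme.Hom.appLE,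
        ← Functor.map_comp]
      rfl
    have hz' : U.topIso.inv z ∈ RingHom.ker (i ∣_ U).appTop.hom := by
      rw [RingHom.mem_ker]
      show (i ∣_ U).appTop (U.topIso.inv z) = 0
      rw [he, CommRingCat.comp_apply, CommRingCat.comp_apply, ← CommRingCat.comp_apply U.topIso.inv,
        Iso.inv_hom_id, CommRingCat.id_apply, show i.app U z = 0 from hz, map_zero]
    obtain ⟨c, hc⟩ := Ideal.mem_span_singleton'.1 (hk2 hz')
    refine Ideal.mem_span_singleton'.2 ⟨U.topIso.hom c, ?_⟩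
    have := congrArg U.topIso.hom hc
    rw [map_mul, map_natCast, ← CommRingCat.comp_apply, Iso.inv_hom_id] at this
    exact this
  · show i.app U (p : Γ(Y, U)) = 0
    let q : ULift.{u} (ZMod p) →+* Γ(Y', i ⁻¹ᵁ U) :=
      ((Scheme.ΓSpecIso _).inv ≫ b.appLE ⊤ (i ⁻¹ᵁ U) le_top).hom
    rw [map_natCast, ← map_natCast q, show ((p : ℕ) : ULift.{u} (ZMod p)) = 0 from
      ULift.ext _ _ (by simp), map_zero]

/-- What is killed by `p` is divisible by `p` on schemes flat over `ℤ/p²`. -/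
theorem exists_eq_mul_of_mul_eq_zero {Y : Scheme.{u}} (a : Y ⟶ Spec (CommRingCat.of (ULift.{u} (ZMod (p ^ 2)))))
    [Flat a] {U : Y.Opens} (hU : IsAffineOpen U) (z : Γ(Y, U)) (hz : (p : Γ(Y, U)) * z = 0) :
    ∃ z', z = (p : Γ(Y, U)) * z' := by
  let eR : ULift.{u} (ZMod (p ^ 2)) ≃+* ZMod (p ^ 2) := ULift.ringEquiv
  let q := ((Scheme.ΓSpecIso (CommRingCat.of (ULift.{u} (ZMod (p ^ 2))))).inv ≫ a.appLE ⊤ U le_top).hom
  have hq : q.Flat := RingHom.Flat.comp (RingHom.Flat.of_bijective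
    (ConcreteCategory.bijective_of_isIso (Scheme.ΓSpecIso _).inv)) (a.flat_appLE (isAffineOpen_top _) hU le_top)
  letI := q.toAlgebra
  haveI : Module.Flat (ULift.{u} (ZMod (p ^ 2))) Γ(Y, U) := hq
  have hs : ∀ w : Γ(Y, U), ((p : ℕ) : ULift.{u} (ZMod (p ^ 2))) • w = (p : Γ(Y, U)) * w := fun w => by
    rw [Algebra.smul_def, map_natCast]
  obtain ⟨z', hz'⟩ := exists_eq_smul_of_smul_eq_zero eR z ((hs z).trans hz)
  exact ⟨z', hz'.trans (hs z')⟩

omit [Fact p.Prime] in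
theorem natCast_mul_natCast {Y : Scheme.{u}} (a : Y ⟶ Spec (CommRingCat.of (ULift.{u} (ZMod (p ^ 2))))) {U : Y.Opens} :
    (p : Γ(Y, U)) * (p : Γ(Y, U)) = 0 := by
  let eR : ULift.{u} (ZMod (p ^ 2)) ≃+* ZMod (p ^ 2) := ULift.ringEquiv
  let q := ((Scheme.ΓSpecIso (CommRingCat.of (ULift.{u} (ZMod (p ^ 2))))).inv ≫ a.appLE ⊤ U le_top).hom
  rw [← map_natCast q, ← map_mul, show ((p : ℕ) : ULift.{u} (ZMod (p ^ 2))) * (p : ℕ) = 0 from
    eR.injective (by rw [map_mul, map_natCast, map_zero, ← Nat.cast_mul, ← pow_two, ZMod.natCast_self]), map_zero]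

variable {S X : Scheme.{u}}

/-- Near every point each component of a normal crossing divisor has one regular equation with flat zero
locus. -/
theorem exists_coordinate (f : X ⟶ S) {r : ℕ} (D : Fin r → X.IdealSheafData) (hD : LogNCD.IsNCD D f) (m : Fin r)
    (x : X) : ∃ W : X.Opens, x ∈ W ∧ ∀ (U' : X.affineOpens) (hUW : U'.1 ≤ W) (V' : S.affineOpens)
      (hUV' : U'.1 ≤ f ⁻¹ᵁ V'.1), ∃ t : Γ(X, U'.1), t ∈ nonZeroDivisors Γ(X, U'.1) ∧
        (D m).ideal U' = Ideal.span {t} ∧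
        ((Ideal.Quotient.mk (Ideal.span {t})).comp (f.appLE V'.1 U'.1 hUV').hom).Flat := by
  have hone : ∀ (U' : X.affineOpens) (V' : S.affineOpens) (hUV' : U'.1 ≤ f ⁻¹ᵁ V'.1), (D m).ideal U' = ⊤ →
      ∃ t : Γ(X, U'.1), t ∈ nonZeroDivisors Γ(X, U'.1) ∧ (D m).ideal U' = Ideal.span {t} ∧
        ((Ideal.Quotient.mk (Ideal.span {t})).comp (f.appLE V'.1 U'.1 hUV').hom).Flat := by
    intro U' V' hUV' h
    refine ⟨1, one_mem _, h.trans Ideal.span_singleton_one.symm, ?_⟩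
    letI := (f.appLE V'.1 U'.1 hUV').hom.toAlgebra
    haveI : Subsingleton (Γ(X, U'.1) ⧸ Ideal.span {(1 : Γ(X, U'.1))}) :=
      Ideal.Quotient.subsingleton_iff.2 Ideal.span_singleton_one
    exact RingHom.flat_algebraMap_iff.2 (inferInstance : Module.Flat Γ(S, V'.1) (Γ(X, U'.1) ⧸ Ideal.span {(1 : Γ(X, U'.1))}))
  rcases isEmpty_or_nonempty (LogNCD.Through D x) with he | hne
  · refine ⟨⟨((D m).support : Set X)ᶜ, (D m).support.isClosed.isOpen_compl⟩,
      fun h => he.false ⟨m, h⟩, fun U' hUW V' hUV' => hone U' V' hUV' ?_⟩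
    exact CycNorm12.ideal_eq_top_of_disjoint _ _ (Set.disjoint_left.2 fun a ha => hUW ha)
  · obtain ⟨W, hxW, n, v, e, -, hEt, hi, ho⟩ := hD x hne
    haveI := hEt
    refine ⟨W, hxW, fun U' hUW V' hUV' => ?_⟩
    by_cases hm : x ∈ (D m).support
    · refine ⟨LogNCD.sectOn W hUW (v (ULift.up (e ⟨m, hm⟩))), ?_⟩
      letI := (f.appLE V'.1 U'.1 hUV').hom.toAlgebra
      obtain ⟨h1, h2⟩ := regular_flat_of_etale (R := Γ(S, V'.1)) (fun i => LogNCD.sectOn W hUW (v i))
        (etale_aeval f W v V'.2 U'.2 hUW hUV') (ULift.up (e ⟨m, hm⟩))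
      exact ⟨h1, hi ⟨m, hm⟩ U' hUW, h2⟩
    · exact hone U' V' hUV' (ho m hm U' hUW)

end GrothLib.NcdLift26
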